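/-
helper69, project C2F4 (= S2369): definitions.
`XA K A` is the subgroup of `F₄(K)` generated by the root subgroups `X_r`, `r ∈ A`; `MA K A = N_{F₄(K)}(X_A)`.
`RowFree D r u`: the row of `e_u` in the matrix of `x_r(t)` is the basis row (read off the chain table of `r`);
`Spread D A`: the root elements of the roots of `A` multiply without interference on the rows of the `h_i`.
`AZ = [44, 47]` (highest short and highest long root), `AT = [39, 45, 40, 44, 46, 47]`.
-/
import Cfsg.Agent.Lib.Helper18.F4C

set_option autoImplicit false

namespace Cfsg.Agent.Lib.Helper69.C2F4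

open Cfsg.Lie Cfsg.Agent.Lib.Helper18 Cfsg.Agent.Lib.Helper91.ReeF4

universe u

/-- The subgroup generated by the root subgroups `X_r`, `r ∈ A`. -/
def XA (K : Type u) [Field K] (A : List ℕ) : Subgroup (GL chevF4.Idx K) :=
  Subgroup.closure {g | ∃ r ∈ A, ∃ c : K, g = xG hD4 r c}

/-- The normaliser of `X_A` in `F₄(K)`. -/
def MA (K : Type u) [Field K] (A : List ℕ) : Subgroup (GL chevF4.Idx K) :=
  Subgroup.normalizer (XA K A : Set (GL chevF4.Idx K)) ⊓ chevF4.group K

/-- The row of `e_u` in the matrix of `x_r(t)` is the basis row. -/
def RowFree (D : ChevalleyDatum) (r u : ℕ) : Bool :=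
  decide (u ≠ r) && (D.chain.getD r #[]).toList.all fun e => e.2.toList.all fun q => decide (q.1 ≠ u)

/-- The root elements of the roots of `A` multiply without interference on the rows of the `h_i`. -/
def Spread (D : ChevalleyDatum) (A : List ℕ) : Bool :=
  A.all fun r => A.all fun r' => RowFree D r' (D.nroots - 1 - r)

/-- All constants of the commutator formula of `r` and `s` are even. -/
def CommEven (D : ChevalleyDatum) (r s : ℕ) : Bool :=
  decide (s ≠ r) && decide (s + r + 1 ≠ D.nroots) && (D.commTerms r s).all fun c => decide (c.2.1 % 2 = 0)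

/-- The root elements of the roots of `A` commute pairwise (in characteristic 2). -/
def CommFree (D : ChevalleyDatum) (A : List ℕ) : Bool :=
  A.all fun r => A.all fun s => r == s || CommEven D r s

/-- Conjugation by the positive root elements maps `x_r(c)`, `r ∈ A`, into `x_r(c) X_{A'}` (characteristic 2). -/
def UStable (D : ChevalleyDatum) (A A' : List ℕ) : Bool :=
  (List.range D.nroots).all fun s => decide (s < D.nroots / 2) ||
    A.all fun r => r == s || (decide (s + r + 1 ≠ D.nroots) &&
      (D.commTerms s r).all fun c => decide (c.1 ∈ A') || decide (c.2.1 % 2 = 0))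

/-- The highest short root and the highest root. -/
def AZ : List ℕ := [44, 47]

/-- `39 = (1,2,2,1)`, `45 = (2,4,2,1)`; then `40 = (1,3,2,1)`, `44 = (2,3,2,1)`, `46 = (2,4,3,1)`, `47 = (2,4,3,2)`. -/
def AT : List ℕ := [39, 45, 40, 44, 46, 47]

/-- The tail of `AT`. -/
def AT1 : List ℕ := [40, 44, 46, 47]

set_option maxRecDepth 100000 in
theorem spread_AZ : Spread chevF4 AZ = true := by decide +kernel

set_option maxRecDepth 100000 in
theorem spread_AT : Spread chevF4 AT = true := by decide +kernel

set_option maxRecDepth 100000 in
theorem commFree_AZ : CommFree chevF4 AZ = true := by decide +kernel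

set_option maxRecDepth 100000 in
theorem commFree_AT : CommFree chevF4 AT = true := by decide +kernel

set_option maxRecDepth 100000 in
theorem uStable_AZ : UStable chevF4 AZ [] = true := by decide +kernel

set_option maxRecDepth 100000 in
theorem uStable_AZ_AZ : UStable chevF4 AZ AZ = true := by decide +kernel

set_option maxRecDepth 100000 in
theorem uStable_AT : UStable chevF4 AT AT1 = true := by decide +kernel

set_option maxRecDepth 100000 in
theorem uStable_AT_AT : UStable chevF4 AT AT = true := by decide +kernel

set_option maxRecDepth 100000 in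
theorem uStable_AT1 : UStable chevF4 AT1 AT1 = true := by decide +kernel

end Cfsg.Agent.Lib.Helper69.C2F4
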