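/-
helper69, project C2F4 (= S2369), module [XA] (a): the elements of `X_A`, `A` a list of roots whose root elements commute
pairwise in characteristic 2, are the ordered products over `A`.
-/
import Cfsg.Agent.Lib.Helper69.C2F4.Defs
import Cfsg.Agent.Lib.Helper18.Tw17
import Cfsg.Agent.Lib.Helper91.HighRoot

set_option autoImplicit false

namespace Cfsg.Agent.Lib.Helper69.C2F4

open Cfsg.Lie Cfsg.Agent.Lib.Helper18 Cfsg.Agent.Lib.Helper91.ReeF4 Cfsg.Agent.Lib.Helper18.F4T

universe u

variable {K : Type u} [Field K]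

/-- The root elements of two roots of a `CommFree` list commute (characteristic 2). -/
theorem xG_commute_of_commFree [CharP K 2] (A : List ℕ) (hA : ∀ r ∈ A, r < 48) (hcm : CommFree chevF4 A = true)
    (r s : ℕ) (hr : r ∈ A) (hs : s ∈ A) (a b : K) : Commute (xG hD4 r a) (xG hD4 s b) := by
  unfold CommFree at hcm
  rw [List.all_eq_true] at hcm
  have h1 := hcm r hr
  rw [List.all_eq_true] at h1
  have h2 := h1 s hs
  rw [Bool.or_eq_true] at h2
  rcases h2 with h2 | h2
  · have : r = s := by simpa using h2
    subst this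
    show xG hD4 r a * xG hD4 r b = xG hD4 r b * xG hD4 r a
    rw [xG_mul, xG_mul, add_comm]
  · unfold CommEven at h2
    rw [Bool.and_eq_true, Bool.and_eq_true, decide_eq_true_eq, decide_eq_true_eq, List.all_eq_true] at h2
    obtain ⟨⟨hsr, hsn⟩, hall⟩ := h2
    have hp : ((2 : ℕ) : K) = 0 := CharP.cast_eq_zero K 2
    have := Cfsg.Agent.Lib.Helper91.HighRoot.xG_comm_rho (F := K) (p := 2) hD4 chevData_F4.{u} hp (hA r hr) s (hA s hs)
      hsr hsn (fun c hc => by simpa using hall c hc) a b
    exact this.symm

/-- The product over a sublist of a `CommFree` list, times a root element, is again such a product. -/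
theorem prodL_single [CharP K 2] (A : List ℕ) (hnd : A.Nodup) (r : ℕ) (hr : r ∈ A) (c : K) :
    prodL hD4 A (fun s => if s = r then c else 0) = xG hD4 r c := by
  induction A with
  | nil => exact absurd hr (List.not_mem_nil)
  | cons a A ih =>
    rw [List.nodup_cons] at hnd
    rw [prodL_cons]
    rcases List.mem_cons.mp hr with rfl | h
    · rw [if_pos rfl]
      have : prodL hD4 A (fun s => if s = r then c else 0) = 1 := by
        rw [← prodL_zero (F := K) hD4 A]
        apply prodL_congr
        intro s hs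
        rw [if_neg]
        intro hsr
        rw [hsr] at hs
        exact hnd.1 hs
      rw [this, mul_one]
    · have hne : a ≠ r := by
        intro har
        rw [har] at hnd
        exact hnd.1 h
      rw [if_neg hne, xG_zero, one_mul]
      exact ih hnd.2 h

/-- C2F4-[XA] (a). -/
theorem exists_prodL_of_mem_XA [CharP K 2] (A : List ℕ) (hA : ∀ r ∈ A, r < 48) (hnd : A.Nodup)
    (hcm : CommFree chevF4 A = true) (y : GL chevF4.Idx K) (hy : y ∈ XA K A) : ∃ t : ℕ → K, y = prodL hD4 A t := by
  have hcomm : ∀ r ∈ A, ∀ r' ∈ A, r ≠ r' → ∀ a b : K, Commute (xG hD4 r a) (xG hD4 r' b) :=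
    fun r hr r' hr' _ a b => xG_commute_of_commFree A hA hcm r r' hr hr' a b
  unfold XA at hy
  induction hy using Subgroup.closure_induction with
  | mem y hy =>
    obtain ⟨r, hr, c, rfl⟩ := hy
    exact ⟨_, (prodL_single A hnd r hr c).symm⟩
  | one => exact ⟨fun _ => 0, (prodL_zero hD4 A).symm⟩
  | mul y₁ y₂ _ _ h1 h2 =>
    obtain ⟨t₁, rfl⟩ := h1
    obtain ⟨t₂, rfl⟩ := h2
    exact ⟨fun r => t₁ r + t₂ r, (prodL_add hD4 A hcomm hnd t₁ t₂).symm⟩
  | inv y _ h1 =>
    obtain ⟨t, rfl⟩ := h1
    refine ⟨fun r => t r + 0, ?_⟩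
    -- in characteristic 2 every element of `X_A` is an involution
    have h2 : prodL hD4 A t * prodL hD4 A t = 1 := by
      rw [← prodL_add hD4 A hcomm hnd t t, ← prodL_zero (F := K) hD4 A]
      apply prodL_congr
      intro r _
      exact CharTwo.add_self_eq_zero (t r)
    rw [inv_eq_of_mul_eq_one_left h2]
    apply prodL_congr
    intro r _
    rw [add_zero]

/-- The ordered products over `A` lie in `X_A`. -/
theorem prodL_mem_XA (A : List ℕ) (t : ℕ → K) : prodL hD4 A t ∈ XA K A := by
  have : ∀ l : List ℕ, (∀ r ∈ l, r ∈ A) → prodL hD4 l t ∈ XA K A := by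
    intro l
    induction l with
    | nil => intro _; rw [prodL_nil]; exact one_mem _
    | cons a l ih =>
      intro hl
      rw [prodL_cons]
      exact mul_mem (Subgroup.subset_closure ⟨a, hl a List.mem_cons_self, t a, rfl⟩)
        (ih fun r hr => hl r (List.mem_cons_of_mem _ hr))
  exact this A fun r hr => hr

end Cfsg.Agent.Lib.Helper69.C2F4
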