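/-
helper69, project C2F4 (= S2369), module [KEY]: the entries of a product of root elements in the rows of the `h_i` and
the columns of the `e_j`.
-/
import Cfsg.Agent.Lib.Helper69.C2F4.Defs
import Cfsg.Agent.Lib.Helper18.Order1

set_option autoImplicit false

namespace Cfsg.Agent.Lib.Helper69.C2F4

open Cfsg.Lie Cfsg.Agent.Lib.Helper18

universe u

variable {F : Type u} [Field F] {D : ChevalleyDatum}

/-- The row of `h_i` in `x_a(c)`, columns of the `h`. -/
theorem x_apply_inl_inl (a : ℕ) (ha : a < D.nroots) (c : F) (i i' : Fin D.rank) :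
    D.x F a c (Sum.inl i) (Sum.inl i') = if i = i' then 1 else 0 := by
  have hx : D.x F a c = D.xMat F ⟨a, ha⟩ c := by
    unfold ChevalleyDatum.x
    rw [dif_pos ha]
  rw [hx]
  simp [ChevalleyDatum.xMat]

/-- The row of `h_i` in `x_a(c)`, columns of the `e`. -/
theorem x_apply_inl_inr (hD : D ∈ [chevG2, chevB2, chevD4, chevF4, chevE6, chevE7, chevE8]) (a : ℕ)
    (ha : a < D.nroots) (c : F) (i : Fin D.rank) (j : Fin D.nroots) :
    D.x F a c (Sum.inl i) (Sum.inr j)
      = if j.val + a + 1 = D.nroots then (((D.coroot.getD a #[]).getD i.val 0 : ℤ) : F) * c else 0 := by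
  by_cases hj : j.val + a + 1 = D.nroots
  · rw [if_pos hj]
    exact x_apply_inl_neg' hD a ha c i j hj
  · rw [if_neg hj]
    have hj2 := j.isLt
    have ha' : D.nroots - 1 - j.val < D.nroots := by omega
    have hne : a ≠ D.nroots - 1 - j.val := by omega
    exact x_apply_inl_neg_of_ne hD (D.nroots - 1 - j.val) a ha' ha hne c i j (by omega)

/-- The row of `e_u` in `x_r(t)` is the basis row when `RowFree D r u`. -/
theorem x_apply_inr_of_rowFree (r : ℕ)
    (hr : r < D.nroots) (t : F) (u : Fin D.nroots) (hf : RowFree D r u.val = true) (col : D.Idx) :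
    D.x F r t (Sum.inr u) col = if col = Sum.inr u then 1 else 0 := by
  have hx : D.x F r t = D.xMat F ⟨r, hr⟩ t := by
    unfold ChevalleyDatum.x
    rw [dif_pos hr]
  rw [hx]
  unfold RowFree at hf
  rw [Bool.and_eq_true, decide_eq_true_eq, List.all_eq_true] at hf
  obtain ⟨hur, hall⟩ := hf
  have hur' : u ≠ ⟨r, hr⟩ := fun h => hur (congrArg Fin.val h)
  rcases col with i | s
  · simp [ChevalleyDatum.xMat, hur']
  · by_cases hsr : s = ⟨r, hr⟩
    · subst hsr
      have : (Sum.inr (⟨r, hr⟩ : Fin D.nroots) : D.Idx) ≠ Sum.inr u := fun h => hur' (Sum.inr.inj h).symm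
      simp [ChevalleyDatum.xMat, hur', this]
    · by_cases hsn : s.val = D.negIdx.getD r 0
      · have hsn' : s.val = (D.negIdx[r]?).getD 0 := by simpa using hsn
        by_cases hus : u = s
        · subst hus
          simp [ChevalleyDatum.xMat, hsr, ← hsn']
        · have : (Sum.inr s : D.Idx) ≠ Sum.inr u := fun h => hus (Sum.inr.inj h).symm
          simp [ChevalleyDatum.xMat, hsr, ← hsn', hus, hur', this]
      · have hsn' : ¬ s.val = (D.negIdx[r]?).getD 0 := by simpa using hsn
        have hcc : D.chainCoeff r s.val u.val = [] := by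
          unfold ChevalleyDatum.chainCoeff
          rw [List.flatMap_eq_nil_iff]
          intro e he
          rw [List.mem_filter] at he
          have h1 := hall e he.1
          rw [List.all_eq_true] at h1
          rw [List.map_eq_nil_iff, List.filter_eq_nil_iff]
          intro q hq
          have hq1 : q.1 ∈ e.2.toList := by
            have := List.mem_zipIdx hq
            -- `q = (e.2.toList[k], k)`
            rcases q with ⟨q1, q2⟩
            simp only at this ⊢
            rw [this.2.2]
            exact List.getElem_mem _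
          have := h1 q.1 hq1
          simpa using this
        by_cases hus : u = s
        · subst hus
          simp [ChevalleyDatum.xMat, hsr, hsn', hcc]
        · have : (Sum.inr s : D.Idx) ≠ Sum.inr u := fun h => hus (Sum.inr.inj h).symm
          simp [ChevalleyDatum.xMat, hsr, hsn', hcc, hus, this]

/-- The row of `e_u` in a product of root elements all `RowFree` for `u` is the basis row. -/
theorem wordG_apply_inr_of_rowFree (hD : D ∈ [chevG2, chevB2, chevD4, chevF4, chevE6, chevE7, chevE8])
    (w : List (ℕ × F)) (hlt : ∀ a ∈ w, a.1 < D.nroots) (u : Fin D.nroots)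
    (hf : ∀ a ∈ w, RowFree D a.1 u.val = true) (col : D.Idx) :
    ((wordG hD w : GL D.Idx F) : Matrix D.Idx D.Idx F) (Sum.inr u) col = if col = Sum.inr u then 1 else 0 := by
  induction w with
  | nil =>
    rw [wordG_nil, Units.val_one, Matrix.one_apply]
    by_cases h : col = Sum.inr u
    · rw [if_pos h, if_pos h.symm]
    · rw [if_neg h, if_neg (fun h' => h h'.symm)]
  | cons a w ih =>
    rw [wordG_cons, Units.val_mul, coe_xG, Matrix.mul_apply]
    have hrow := x_apply_inr_of_rowFree (F := F) a.1 (hlt a List.mem_cons_self) a.2 u (hf a List.mem_cons_self)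
    rw [Finset.sum_eq_single (Sum.inr u : D.Idx)]
    · rw [hrow, if_pos rfl, one_mul]
      exact ih (fun b hb => hlt b (List.mem_cons_of_mem _ hb)) (fun b hb => hf b (List.mem_cons_of_mem _ hb))
    · intro k _ hk
      rw [hrow, if_neg hk, zero_mul]
    · intro h
      exact absurd (Finset.mem_univ _) h

/-- C2F4-[KEY]: the entry of a product of root elements in the row of `h_i` and the column of `e_j`. -/
theorem entry_wordG (hD : D ∈ [chevG2, chevB2, chevD4, chevF4, chevE6, chevE7, chevE8]) (w : List (ℕ × F))
    (hlt : ∀ a ∈ w, a.1 < D.nroots) (hsp : Spread D (w.map Prod.fst) = true) (i : Fin D.rank) (j : Fin D.nroots) :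
    ((wordG hD w : GL D.Idx F) : Matrix D.Idx D.Idx F) (Sum.inl i) (Sum.inr j)
      = (w.map fun a => if j.val + a.1 + 1 = D.nroots then
          (((D.coroot.getD a.1 #[]).getD i.val 0 : ℤ) : F) * a.2 else 0).sum := by
  induction w with
  | nil =>
    rw [wordG_nil, Units.val_one, Matrix.one_apply_ne (by simp), List.map_nil, List.sum_nil]
  | cons a w ih =>
    have ha := hlt a List.mem_cons_self
    have hlt' : ∀ b ∈ w, b.1 < D.nroots := fun b hb => hlt b (List.mem_cons_of_mem _ hb)
    unfold Spread at hsp
    rw [List.all_eq_true] at hsp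
    have hsp' : Spread D (w.map Prod.fst) = true := by
      unfold Spread
      rw [List.all_eq_true]
      intro r hr
      have h1 := hsp r (by rw [List.map_cons]; exact List.mem_cons_of_mem _ hr)
      rw [List.all_eq_true] at h1 ⊢
      intro r' hr'
      exact h1 r' (by rw [List.map_cons]; exact List.mem_cons_of_mem _ hr')
    have hfree : ∀ b ∈ w, RowFree D b.1 (D.nroots - 1 - a.1) = true := by
      intro b hb
      have h1 := hsp a.1 (by rw [List.map_cons]; exact List.mem_cons_self)
      rw [List.all_eq_true] at h1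
      exact h1 b.1 (by rw [List.map_cons]; exact List.mem_cons_of_mem _ (List.mem_map_of_mem hb))
    have hu : D.nroots - 1 - a.1 < D.nroots := by omega
    have h1 : ∑ i' : Fin D.rank, D.x F a.1 a.2 (Sum.inl i) (Sum.inl i')
        * ((wordG hD w : GL D.Idx F) : Matrix D.Idx D.Idx F) (Sum.inl i') (Sum.inr j)
        = ((wordG hD w : GL D.Idx F) : Matrix D.Idx D.Idx F) (Sum.inl i) (Sum.inr j) := by
      rw [Finset.sum_eq_single i]
      · rw [x_apply_inl_inl a.1 ha, if_pos rfl, one_mul]
      · intro i' _ hi'
        rw [x_apply_inl_inl a.1 ha, if_neg (fun h => hi' h.symm), zero_mul]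
      · intro h
        exact absurd (Finset.mem_univ _) h
    have h2 : ∑ s : Fin D.nroots, D.x F a.1 a.2 (Sum.inl i) (Sum.inr s)
        * ((wordG hD w : GL D.Idx F) : Matrix D.Idx D.Idx F) (Sum.inr s) (Sum.inr j)
        = if j.val + a.1 + 1 = D.nroots then (((D.coroot.getD a.1 #[]).getD i.val 0 : ℤ) : F) * a.2 else 0 := by
      rw [Finset.sum_eq_single (⟨D.nroots - 1 - a.1, hu⟩ : Fin D.nroots)]
      · rw [x_apply_inl_inr hD a.1 ha, if_pos (by simp only; omega),
          wordG_apply_inr_of_rowFree hD w hlt' ⟨D.nroots - 1 - a.1, hu⟩ hfree]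
        by_cases hj : j.val + a.1 + 1 = D.nroots
        · have : (Sum.inr j : D.Idx) = Sum.inr ⟨D.nroots - 1 - a.1, hu⟩ := by
            congr 1
            apply Fin.ext
            simp only
            omega
          rw [if_pos this, if_pos hj, mul_one]
        · have : (Sum.inr j : D.Idx) ≠ Sum.inr ⟨D.nroots - 1 - a.1, hu⟩ := by
            intro h
            have := congrArg Fin.val (Sum.inr.inj h)
            simp only at this
            omega
          rw [if_neg this, if_neg hj, mul_zero]
      · intro s _ hs
        rw [x_apply_inl_inr hD a.1 ha, if_neg, zero_mul]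
        intro h
        apply hs
        apply Fin.ext
        simp only
        omega
      · intro h
        exact absurd (Finset.mem_univ _) h
    rw [wordG_cons, Units.val_mul, coe_xG, Matrix.mul_apply, Fintype.sum_sum_type, List.map_cons, List.sum_cons,
      ← ih hlt' hsp', h1, h2, add_comm]

end Cfsg.Agent.Lib.Helper69.C2F4
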