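/-
helper69, project C2F4 (= S2369): the parameters of a product of root elements over a `Spread` list of roots are
determined by the product (through the entries in the rows of the `h_i`).
-/
import Cfsg.Agent.Lib.Helper69.C2F4.Key

set_option autoImplicit false

namespace Cfsg.Agent.Lib.Helper69.C2F4

open Cfsg.Lie Cfsg.Agent.Lib.Helper18

universe u

variable {F : Type u} [Field F] {D : ChevalleyDatum}

/-- The sum of the parameters of the letters of `w` with root `s`. -/
def coefAt (w : List (ℕ × F)) (s : ℕ) : F := (w.map fun a => if a.1 = s then a.2 else 0).sum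

theorem coefAt_nil (s : ℕ) : coefAt ([] : List (ℕ × F)) s = 0 := rfl

theorem coefAt_cons (a : ℕ × F) (w : List (ℕ × F)) (s : ℕ) :
    coefAt (a :: w) s = (if a.1 = s then a.2 else 0) + coefAt w s := by
  unfold coefAt
  rw [List.map_cons, List.sum_cons]

/-- The entry in the row of `h_i` and the column of `e_{-s}` is `c_i(s)` times the parameter at `s`. -/
theorem entry_eq_coefAt (hD : D ∈ [chevG2, chevB2, chevD4, chevF4, chevE6, chevE7, chevE8]) (w : List (ℕ × F))
    (hlt : ∀ a ∈ w, a.1 < D.nroots) (hsp : Spread D (w.map Prod.fst) = true) (i : Fin D.rank) (s : ℕ)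
    (hs : s < D.nroots) :
    ((wordG hD w : GL D.Idx F) : Matrix D.Idx D.Idx F) (Sum.inl i)
        (Sum.inr ⟨D.nroots - 1 - s, by omega⟩)
      = (((D.coroot.getD s #[]).getD i.val 0 : ℤ) : F) * coefAt w s := by
  rw [entry_wordG hD w hlt hsp]
  unfold coefAt
  rw [← List.sum_map_mul_left]
  congr 1
  apply List.map_congr_left
  intro a ha
  have h1 := hlt a ha
  by_cases h : a.1 = s
  · rw [if_pos h, if_pos (by simp only; omega), h]
  · rw [if_neg h, if_neg (by simp only; omega), mul_zero]

/-- Two `Spread` words with the same product have the same parameters. -/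
theorem coefAt_eq_of_wordG_eq (hD : D ∈ [chevG2, chevB2, chevD4, chevF4, chevE6, chevE7, chevE8])
    (w w' : List (ℕ × F)) (hlt : ∀ a ∈ w, a.1 < D.nroots) (hlt' : ∀ a ∈ w', a.1 < D.nroots)
    (hsp : Spread D (w.map Prod.fst) = true) (hsp' : Spread D (w'.map Prod.fst) = true)
    (h : wordG hD w = wordG hD w') (s : ℕ) (hs : s < D.nroots) : coefAt w s = coefAt w' s := by
  have key : ∀ i : Fin D.rank, (((D.coroot.getD s #[]).getD i.val 0 : ℤ) : F) * coefAt w s
      = (((D.coroot.getD s #[]).getD i.val 0 : ℤ) : F) * coefAt w' s := by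
    intro i
    rw [← entry_eq_coefAt hD w hlt hsp i s hs, ← entry_eq_coefAt hD w' hlt' hsp' i s hs, h]
  obtain ⟨i, hi, j, hj, m, m', hmm⟩ := bezOK2_spec (bezOK2_of_mem D hD) s hs
  have h1 := key ⟨i, hi⟩
  have h2 := key ⟨j, hj⟩
  simp only at h1 h2
  have h3 : ((m * (D.coroot.getD s #[]).getD i 0 + m' * (D.coroot.getD s #[]).getD j 0 : ℤ) : F) * coefAt w s
      = ((m * (D.coroot.getD s #[]).getD i 0 + m' * (D.coroot.getD s #[]).getD j 0 : ℤ) : F) * coefAt w' s := by
    push_cast
    rw [add_mul, add_mul, mul_assoc, mul_assoc, mul_assoc, mul_assoc, h1, h2]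
  rw [hmm] at h3
  simpa using h3

/-- The parameter at `s` of the word of a list of roots. -/
theorem coefAt_map_of_not_mem (l : List ℕ) (f : ℕ → ℕ) (t : ℕ → F) (s : ℕ) (hs : ∀ r ∈ l, f r ≠ s) :
    coefAt (l.map fun r => (f r, t r)) s = 0 := by
  induction l with
  | nil => rfl
  | cons a l ih =>
    rw [List.map_cons, coefAt_cons, ih fun r hr => hs r (List.mem_cons_of_mem _ hr),
      if_neg (hs a List.mem_cons_self), add_zero]

theorem coefAt_map_of_mem (l : List ℕ) (hnd : l.Nodup) (f : ℕ → ℕ) (hf : ∀ r ∈ l, ∀ r' ∈ l, f r = f r' → r = r')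
    (t : ℕ → F) (r₀ : ℕ) (hr₀ : r₀ ∈ l) : coefAt (l.map fun r => (f r, t r)) (f r₀) = t r₀ := by
  induction l with
  | nil => exact absurd hr₀ (List.not_mem_nil)
  | cons a l ih =>
    rw [List.nodup_cons] at hnd
    rw [List.map_cons, coefAt_cons]
    rcases List.mem_cons.mp hr₀ with rfl | h
    · rw [if_pos rfl, coefAt_map_of_not_mem, add_zero]
      intro r hr hfr
      have := hf r (List.mem_cons_of_mem _ hr) r₀ List.mem_cons_self hfr
      rw [this] at hr
      exact hnd.1 hr
    · have hne : f a ≠ f r₀ := by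
        intro hfa
        have := hf a List.mem_cons_self r₀ (List.mem_cons_of_mem _ h) hfa
        rw [this] at hnd
        exact hnd.1 h
      rw [if_neg hne, zero_add]
      exact ih hnd.2 (fun r hr r' hr' => hf r (List.mem_cons_of_mem _ hr) r' (List.mem_cons_of_mem _ hr')) h

end Cfsg.Agent.Lib.Helper69.C2F4
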