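/-
helper69, project C2F4 (= S2369), module [SUPP] in `_of` form (the Weyl invariance of `Spread` as a hypothesis).
-/
import Cfsg.Agent.Lib.Helper69.C2F4.Coef
import Cfsg.Agent.Lib.Helper18.Order3

set_option autoImplicit false

namespace Cfsg.Agent.Lib.Helper69.C2F4

open Cfsg.Lie Cfsg.Agent.Lib.Helper18 Cfsg.Agent.Lib.Helper91.ReeF4 Cfsg.Agent.Lib.Helper18.F4T

universe u

variable {K : Type u} [Field K]

/-- The action of a word on the root indices is injective. -/
theorem wordRootF_inj (ws : List ℕ) (hws : ∀ i ∈ ws, i < 4) (r r' : ℕ) (hr : r < 48) (hr' : r' < 48)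
    (h : wordRootF f4tabs ws r = wordRootF f4tabs ws r') : r = r' := by
  have hws' : ∀ i ∈ ws, i < chevF4.rank := hws
  have h1 := wordPerm_apply chevData_F4.{0} ws hws' ⟨r, hr⟩
  have h2 := wordPerm_apply chevData_F4.{0} ws hws' ⟨r', hr'⟩
  have h3 : (wordPerm chevData_F4.{0} ws ⟨r, hr⟩).val = (wordPerm chevData_F4.{0} ws ⟨r', hr'⟩).val := by
    rw [h1, h2]
    exact h
  have h4 := (wordPerm chevData_F4.{0} ws).injective (Fin.ext h3)
  exact congrArg Fin.val h4

/-- C2F4-[SUPP], with the Weyl invariance of `Spread` as a hypothesis. -/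
theorem supp_of_conj_of [CharP K 2] (A : List ℕ) (hA : ∀ r ∈ A, r < 48) (hnd : A.Nodup)
    (hsp : Spread chevF4 A = true) (ws : List ℕ) (hws : ∀ i ∈ ws, i < 4)
    (hwinv : Spread chevF4 (A.map (wordRootF f4tabs ws)) = true) (t t' : ℕ → K)
    (h : nW hD4 chevData_F4.{u} ws * prodL hD4 A t * (nW hD4 chevData_F4.{u} ws)⁻¹ = prodL hD4 A t') :
    ∀ r ∈ A, t r ≠ 0 → wordRootF f4tabs ws r ∈ A := by
  intro r₀ hr₀ ht
  by_contra hnot
  have hws' : ∀ i ∈ ws, i < chevF4.rank := hws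
  have hlt1 : ∀ a ∈ A.map (fun r => (r, t r)), a.1 < chevF4.nroots := by
    intro a ha
    obtain ⟨r, hr, rfl⟩ := List.mem_map.mp ha
    exact hA r hr
  rw [prodL_eq_wordG, prodL_eq_wordG, nW_conj_wordG ws hws' _ hlt1, List.map_map] at h
  have hlt2 : ∀ a ∈ A.map ((fun a : ℕ × K => (wordRootF f4tabs ws a.1, a.2)) ∘ fun r => (r, t r)),
      a.1 < chevF4.nroots := by
    intro a ha
    obtain ⟨r, hr, rfl⟩ := List.mem_map.mp ha
    have := wordRootF_lt chevData_F4.{0} ws hws' r (hA r hr)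
    exact this
  have hlt3 : ∀ a ∈ A.map (fun r => (r, t' r)), a.1 < chevF4.nroots := by
    intro a ha
    obtain ⟨r, hr, rfl⟩ := List.mem_map.mp ha
    exact hA r hr
  have hs1 : Spread chevF4 ((A.map ((fun a : ℕ × K => (wordRootF f4tabs ws a.1, a.2)) ∘ fun r => (r, t r))).map
      Prod.fst) = true := by
    rw [List.map_map]
    exact hwinv
  have hs3 : Spread chevF4 ((A.map (fun r => (r, t' r))).map Prod.fst) = true := by
    rw [List.map_map]
    have : (Prod.fst ∘ fun r => (r, t' r)) = id := rfl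
    rw [this, List.map_id]
    exact hsp
  have hlt0 : wordRootF f4tabs ws r₀ < chevF4.nroots := wordRootF_lt chevData_F4.{0} ws hws' r₀ (hA r₀ hr₀)
  have key := coefAt_eq_of_wordG_eq hD4 _ _ hlt2 hlt3 hs1 hs3 h (wordRootF f4tabs ws r₀) hlt0
  have e1 : coefAt (A.map ((fun a : ℕ × K => (wordRootF f4tabs ws a.1, a.2)) ∘ fun r => (r, t r)))
      (wordRootF f4tabs ws r₀) = t r₀ :=
    coefAt_map_of_mem A hnd (wordRootF f4tabs ws)
      (fun r hr r' hr' hrr => wordRootF_inj ws hws r r' (hA r hr) (hA r' hr') hrr) t r₀ hr₀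
  have e2 : coefAt (A.map (fun r => (r, t' r))) (wordRootF f4tabs ws r₀) = 0 :=
    coefAt_map_of_not_mem A id t' _ (fun r hr hrr => hnot (by rw [← hrr]; exact hr))
  rw [e1, e2] at key
  exact ht key

end Cfsg.Agent.Lib.Helper69.C2F4
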