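/-
helper69, project C2F4 (= S2369), module [XA] (b): `n_w` normalises `X_A` iff `w` maps `A` into `A`.
-/
import Cfsg.Agent.Lib.Helper69.C2F4.XAa
import Cfsg.Agent.Lib.Helper69.C2F4.SuppOf

set_option autoImplicit false

namespace Cfsg.Agent.Lib.Helper69.C2F4

open Cfsg.Lie Cfsg.Agent.Lib.Helper18 Cfsg.Agent.Lib.Helper91.ReeF4 Cfsg.Agent.Lib.Helper18.F4T

universe u

variable {K : Type u} [Field K]

set_option maxRecDepth 100000 in
/-- A one-letter word is `Spread`. -/
theorem rowFree_self : ∀ s < 48, RowFree chevF4 s (47 - s) = true := by decide +kernel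

theorem spread_single (s : ℕ) (hs : s < 48) : Spread chevF4 [s] = true := by
  unfold Spread
  simp only [List.all_cons, List.all_nil, Bool.and_true]
  exact rowFree_self s hs

/-- Conjugation of a root element by `n_w` in characteristic 2. -/
theorem nW_conj_xG_two [CharP K 2] (ws : List ℕ) (hws : ∀ i ∈ ws, i < 4) (r : ℕ) (hr : r < 48) (c : K) :
    nW hD4 chevData_F4.{u} ws * xG hD4 r c * (nW hD4 chevData_F4.{u} ws)⁻¹ = xG hD4 (wordRootF f4tabs ws r) c := by
  have h := nW_conj_wordG (K := K) ws hws [(r, c)] (by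
    intro a ha
    rw [List.mem_singleton] at ha
    rw [ha]
    exact hr)
  simpa [wordG_cons, wordG_nil] using h

/-- C2F4-[XA] (b). -/
theorem nW_mem_normalizer_XA_iff [CharP K 2] (A : List ℕ) (hA : ∀ r ∈ A, r < 48) (hnd : A.Nodup)
    (hsp : Spread chevF4 A = true) (hcm : CommFree chevF4 A = true) (ws : List ℕ) (hws : ∀ i ∈ ws, i < 4) :
    nW hD4 chevData_F4.{u} ws ∈ Subgroup.normalizer (XA K A : Set (GL chevF4.Idx K))
      ↔ ∀ r ∈ A, wordRootF f4tabs ws r ∈ A := by
  have hws' : ∀ i ∈ ws, i < chevF4.rank := hws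
  constructor
  · intro hn r hr
    by_contra hnot
    rw [Subgroup.mem_normalizer_iff] at hn
    have h1 : nW hD4 chevData_F4.{u} ws * xG hD4 r (1 : K) * (nW hD4 chevData_F4.{u} ws)⁻¹ ∈ XA K A :=
      (hn _).mp (Subgroup.subset_closure ⟨r, hr, 1, rfl⟩)
    rw [nW_conj_xG_two ws hws r (hA r hr)] at h1
    obtain ⟨t, ht⟩ := exists_prodL_of_mem_XA A hA hnd hcm _ h1
    have hlt0 : wordRootF f4tabs ws r < chevF4.nroots := wordRootF_lt chevData_F4.{0} ws hws' r (hA r hr)
    have e0 : xG hD4 (wordRootF f4tabs ws r) (1 : K) = wordG hD4 [(wordRootF f4tabs ws r, (1 : K))] := by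
      rw [wordG_cons, wordG_nil, mul_one]
    rw [e0, prodL_eq_wordG] at ht
    have hlt1 : ∀ a ∈ [(wordRootF f4tabs ws r, (1 : K))], a.1 < chevF4.nroots := by
      intro a ha
      rw [List.mem_singleton] at ha
      rw [ha]
      exact hlt0
    have hlt3 : ∀ a ∈ A.map (fun r => (r, t r)), a.1 < chevF4.nroots := by
      intro a ha
      obtain ⟨r', hr', rfl⟩ := List.mem_map.mp ha
      exact hA r' hr'
    have hs3 : Spread chevF4 ((A.map (fun r => (r, t r))).map Prod.fst) = true := by
      rw [List.map_map]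
      have : (Prod.fst ∘ fun r => (r, t r)) = id := rfl
      rw [this, List.map_id]
      exact hsp
    have key := coefAt_eq_of_wordG_eq hD4 _ _ hlt1 hlt3 (spread_single _ hlt0) hs3 ht (wordRootF f4tabs ws r) hlt0
    have e1 : coefAt [(wordRootF f4tabs ws r, (1 : K))] (wordRootF f4tabs ws r) = 1 := by
      rw [coefAt_cons, coefAt_nil, if_pos rfl, add_zero]
    have e2 : coefAt (A.map (fun r => (r, t r))) (wordRootF f4tabs ws r) = 0 :=
      coefAt_map_of_not_mem A id t _ (fun r' hr' hrr => hnot (by rw [← hrr]; exact hr'))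
    rw [e1, e2] at key
    exact one_ne_zero key
  · intro hw
    -- `w` permutes `A`
    have hsub : A.map (wordRootF f4tabs ws) ⊆ A := by
      intro s hs
      obtain ⟨r, hr, rfl⟩ := List.mem_map.mp hs
      exact hw r hr
    have hndm : (A.map (wordRootF f4tabs ws)).Nodup := by
      rw [List.nodup_map_iff_inj_on hnd]
      intro r hr r' hr' hrr
      exact wordRootF_inj ws hws r r' (hA r hr) (hA r' hr') hrr
    have hperm : (A.map (wordRootF f4tabs ws)).Perm A :=
      (List.subperm_of_subset hndm hsub).perm_of_length_le (by rw [List.length_map])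
    apply Cfsg.Agent.Lib.Helper91.HighRoot.mem_normalizer_of_conj
    · intro x hx
      have hle : XA K A ≤ (XA K A).comap (MulAut.conj (nW hD4 chevData_F4.{u} ws)).toMonoidHom := by
        unfold XA
        rw [Subgroup.closure_le]
        rintro g ⟨r, hr, c, rfl⟩
        rw [SetLike.mem_coe, Subgroup.mem_comap]
        have e : (MulAut.conj (nW hD4 chevData_F4.{u} ws)).toMonoidHom (xG hD4 r c)
            = nW hD4 chevData_F4.{u} ws * xG hD4 r c * (nW hD4 chevData_F4.{u} ws)⁻¹ := rfl
        rw [e, nW_conj_xG_two ws hws r (hA r hr)]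
        exact Subgroup.subset_closure ⟨_, hw r hr, c, rfl⟩
      exact hle hx
    · intro x hx
      have hle : XA K A ≤ (XA K A).comap (MulAut.conj (nW hD4 chevData_F4.{u} ws)⁻¹).toMonoidHom := by
        unfold XA
        rw [Subgroup.closure_le]
        rintro g ⟨s, hs, c, rfl⟩
        rw [SetLike.mem_coe, Subgroup.mem_comap]
        obtain ⟨r, hr, rfl⟩ := List.mem_map.mp (hperm.mem_iff.mpr hs)
        have e : (MulAut.conj (nW hD4 chevData_F4.{u} ws)⁻¹).toMonoidHom (xG hD4 (wordRootF f4tabs ws r) c)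
            = (nW hD4 chevData_F4.{u} ws)⁻¹ * xG hD4 (wordRootF f4tabs ws r) c
              * ((nW hD4 chevData_F4.{u} ws)⁻¹)⁻¹ := rfl
        rw [e, ← nW_conj_xG_two ws hws r (hA r hr)]
        have e2 : (nW hD4 chevData_F4.{u} ws)⁻¹ * (nW hD4 chevData_F4.{u} ws * xG hD4 r c * (nW hD4 chevData_F4.{u} ws)⁻¹)
            * ((nW hD4 chevData_F4.{u} ws)⁻¹)⁻¹ = xG hD4 r c := by group
        rw [e2]
        exact Subgroup.subset_closure ⟨r, hr, c, rfl⟩
      have h3 := hle hx
      rw [Subgroup.mem_comap] at h3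
      have e3 : (MulAut.conj (nW hD4 chevData_F4.{u} ws)⁻¹).toMonoidHom x
          = (nW hD4 chevData_F4.{u} ws)⁻¹ * x * ((nW hD4 chevData_F4.{u} ws)⁻¹)⁻¹ := rfl
      rw [e3, inv_inv] at h3
      exact h3

end Cfsg.Agent.Lib.Helper69.C2F4
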