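/-
helper69, project C2F4 (= S2369), module [SUPP]: exact sheet statement (from `supp_of_conj_of` and helper24's [WINV]).
-/
import Cfsg.Agent.Lib.Helper69.C2F4.SuppOf
import Cfsg.Agent.Lib.Helper24.C2F4WInv

set_option autoImplicit false

namespace Cfsg.Agent.Lib.Helper69.C2F4

open Cfsg.Lie Cfsg.Agent.Lib.Helper18 Cfsg.Agent.Lib.Helper91.ReeF4 Cfsg.Agent.Lib.Helper18.F4T

universe u

variable {K : Type u} [Field K]

/-- C2F4-[SUPP]. -/
theorem supp_of_conj [CharP K 2] (A : List ℕ) (hA : ∀ r ∈ A, r < 48) (hnd : A.Nodup) (hsp : Spread chevF4 A = true)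
    (ws : List ℕ) (hws : ∀ i ∈ ws, i < 4) (t t' : ℕ → K)
    (h : nW hD4 chevData_F4.{u} ws * prodL hD4 A t * (nW hD4 chevData_F4.{u} ws)⁻¹ = prodL hD4 A t') :
    ∀ r ∈ A, t r ≠ 0 → wordRootF f4tabs ws r ∈ A :=
  supp_of_conj_of A hA hnd hsp ws hws (spread_map_word A hA hsp ws hws) t t' h

end Cfsg.Agent.Lib.Helper69.C2F4
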