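/-
helper69, project C2F4 (= S2369): the fundamental reflections in `M_Z`, `M_T` and the orders of `M_Z`, `M_T` (own names,
hedge of modules [SMEM], [CARD]).
-/
import Cfsg.Agent.Lib.Helper69.C2F4.XAb
import Cfsg.Agent.Lib.Helper89.C2F4XAcd
import Cfsg.Agent.Lib.Helper43.C2F4ParCard
import Cfsg.Agent.Lib.Helper43.C2F4Wsum

set_option autoImplicit false

namespace Cfsg.Agent.Lib.Helper69.C2F4

open Cfsg.Lie Cfsg.Agent.Lib.Helper18 Cfsg.Agent.Lib.Helper91.ReeF4 Cfsg.Agent.Lib.Helper18.F4T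

universe u

variable {K : Type u} [Field K]

theorem nW_mem_MA_iff_h69 [CharP K 2] (A : List ℕ) (hA : ∀ r ∈ A, r < 48) (hnd : A.Nodup)
    (hsp : Spread chevF4 A = true) (hcm : CommFree chevF4 A = true) (ws : List ℕ) (hws : ∀ i ∈ ws, i < 4) :
    nW hD4 chevData_F4.{u} ws ∈ MA K A ↔ ∀ r ∈ A, wordRootF f4tabs ws r ∈ A := by
  obtain ⟨-, hNG, -⟩ := Cfsg.Agent.S1043.result (F := K) chevF4 hD4
  unfold MA
  rw [Subgroup.mem_inf, nW_mem_normalizer_XA_iff A hA hnd hsp hcm ws hws]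
  exact ⟨fun h => h.1, fun h => ⟨h, hNG (nW_mem_monomial hD4 chevData_F4 ws)⟩⟩

theorem sG_eq_nW_h69 (j : ℕ) : sG (F := K) hD4 chevData_F4.{u} j = nW hD4 chevData_F4.{u} [j] := by
  rw [nW_cons, nW_nil, mul_one]

theorem sG_mem_MZ_iff_h69 [CharP K 2] (j : ℕ) (hj : j < 4) :
    sG hD4 chevData_F4.{u} j ∈ MA K AZ ↔ j ∈ [1, 2] := by
  rw [sG_eq_nW_h69, nW_mem_MA_iff_h69 AZ (by decide) (by decide) spread_AZ commFree_AZ [j]
    (by intro i hi; rw [List.mem_singleton] at hi; omega)]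
  interval_cases j <;> decide +kernel

theorem sG_mem_MT_iff_h69 [CharP K 2] (j : ℕ) (hj : j < 4) :
    sG hD4 chevData_F4.{u} j ∈ MA K AT ↔ j ∈ [0, 3] := by
  rw [sG_eq_nW_h69, nW_mem_MA_iff_h69 AT (by decide) (by decide) spread_AT commFree_AT [j]
    (by intro i hi; rw [List.mem_singleton] at hi; omega)]
  interval_cases j <;> decide +kernel

theorem card_MZ_h69 [CharP K 2] [Fintype K] : Nat.card (MA K AZ)
    = Fintype.card K ^ 24 * (Fintype.card K - 1) ^ 4 * ((1 + Fintype.card K) ^ 2 * (1 + Fintype.card K ^ 2)) := by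
  rw [card_of_borel_le hD4 chevData_F4.{u} (MA K AZ) (borel_le_MA AZ (by decide) uStable_AZ_AZ) inf_le_right [1, 2]
    (fun j hj => (sG_mem_MZ_iff_h69 j hj).symm), wsum_12, card_borel_F4]

theorem card_MT_h69 [CharP K 2] [Fintype K] : Nat.card (MA K AT)
    = Fintype.card K ^ 24 * (Fintype.card K - 1) ^ 4 * (1 + Fintype.card K) ^ 2 := by
  rw [card_of_borel_le hD4 chevData_F4.{u} (MA K AT) (borel_le_MA AT (by decide) uStable_AT_AT) inf_le_right [0, 3]
    (fun j hj => (sG_mem_MT_iff_h69 j hj).symm), wsum_03, card_borel_F4]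

end Cfsg.Agent.Lib.Helper69.C2F4
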