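/-
helper69, project C2F4 (= S2369): the conjugations of the class representatives `z₀`, `t₀` to `z`, `t` (own names, hedge
of module [CONJ]).
-/
import Cfsg.Agent.Lib.Helper69.C2F4.XAb

set_option autoImplicit false

namespace Cfsg.Agent.Lib.Helper69.C2F4

open Cfsg.Lie Cfsg.Agent.Lib.Helper18 Cfsg.Agent.Lib.Helper91.ReeF4 Cfsg.Agent.Lib.Helper18.F4T

universe u

variable {K : Type u} [Field K]

theorem nW_conj_two_h69 [CharP K 2] (ws : List ℕ) (hws : ∀ i ∈ ws, i < 4) (r s : ℕ) (hr : r < 48) (hs : s < 48)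
    (a b : K) :
    nW hD4 chevData_F4.{u} ws * (xG hD4 r a * xG hD4 s b) * (nW hD4 chevData_F4.{u} ws)⁻¹
      = xG hD4 (wordRootF f4tabs ws r) a * xG hD4 (wordRootF f4tabs ws s) b := by
  rw [← nW_conj_xG_two ws hws r hr, ← nW_conj_xG_two ws hws s hs]
  group

theorem conj_z0_h69 [CharP K 2] : nW hD4 chevData_F4.{u} [3, 2, 0, 1, 2, 3, 1, 0] * (xG hD4 28 (1 : K) * xG hD4 30 1)
    * (nW hD4 chevData_F4.{u} [3, 2, 0, 1, 2, 3, 1, 0])⁻¹ = xG hD4 44 1 * xG hD4 47 1 := by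
  rw [nW_conj_two_h69 _ (by decide) 28 30 (by norm_num) (by norm_num)]
  have h1 : wordRootF f4tabs [3, 2, 0, 1, 2, 3, 1, 0] 28 = 44 := by decide +kernel
  have h2 : wordRootF f4tabs [3, 2, 0, 1, 2, 3, 1, 0] 30 = 47 := by decide +kernel
  rw [h1, h2]

theorem conj_t0_h69 [CharP K 2] : nW hD4 chevData_F4.{u} [2, 1, 2, 3, 1, 2, 0, 1, 2, 1] * (xG hD4 33 (1 : K) * xG hD4 24 1)
    * (nW hD4 chevData_F4.{u} [2, 1, 2, 3, 1, 2, 0, 1, 2, 1])⁻¹ = xG hD4 39 1 * xG hD4 45 1 := by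
  rw [nW_conj_two_h69 _ (by decide) 33 24 (by norm_num) (by norm_num)]
  have h1 : wordRootF f4tabs [2, 1, 2, 3, 1, 2, 0, 1, 2, 1] 33 = 39 := by decide +kernel
  have h2 : wordRootF f4tabs [2, 1, 2, 3, 1, 2, 0, 1, 2, 1] 24 = 45 := by decide +kernel
  rw [h1, h2]

end Cfsg.Agent.Lib.Helper69.C2F4
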