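/-
helper69, project C2F4 (= S2369), module [PARCARD]: the order of a subgroup `B ≤ M ≤ G` of a Chevalley group is
`|B| ∑_{w ∈ W_J} q^{l(w)}`, `J` the set of fundamental reflections lying in `M`.
-/
import Cfsg.Agent.Lib.Helper18.WeylSum2
import Cfsg.Agent.Lib.Helper6.BNParabolic

set_option autoImplicit false

namespace Cfsg.Agent.Lib.Helper69.C2F4

open Cfsg.Lie Cfsg.Agent.Lib.Helper18 Cfsg.Agent.Lib.Helper17 Cfsg.Agent.Lib.Helper6

universe u

variable {F : Type u} [Field F] {D : ChevalleyDatum}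

section

variable (hD : D ∈ [chevG2, chevB2, chevD4, chevF4, chevE6, chevE7, chevE8]) (C : ChevData.{u} D)

/-- A word in the letters of `J` times an element of `H`. -/
def IsWordHJ (J : List ℕ) (n : GL D.Idx F) : Prop :=
  ∃ (ws : List ℕ) (h : GL D.Idx F), (∀ i ∈ ws, i ∈ J ∧ i < D.rank) ∧ h ∈ D.diagonalSubgroup F ∧ n = nW hD C ws * h

theorem isWordHJ_mul (J : List ℕ) (n₁ n₂ : GL D.Idx F) (h1 : IsWordHJ hD C J n₁) (h2 : IsWordHJ hD C J n₂) :
    IsWordHJ hD C J (n₁ * n₂) := by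
  obtain ⟨ws₁, g₁, hw₁, hg₁, rfl⟩ := h1
  obtain ⟨ws₂, g₂, hw₂, hg₂, rfl⟩ := h2
  refine ⟨ws₁ ++ ws₂, (nW hD C ws₂)⁻¹ * g₁ * nW hD C ws₂ * g₂, ?_, ?_, ?_⟩
  · intro i hi
    rcases List.mem_append.mp hi with hi | hi
    · exact hw₁ i hi
    · exact hw₂ i hi
  · exact mul_mem (nW_inv_conj_H hD C ws₂ g₁ hg₁) hg₂
  · rw [nW_append]; group

theorem isWordHJ_of_mem_H (J : List ℕ) (h : GL D.Idx F) (hh : h ∈ D.diagonalSubgroup F) : IsWordHJ hD C J h :=
  ⟨[], h, by simp, hh, by rw [nW_nil, one_mul]⟩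

theorem isWordHJ_sG (J : List ℕ) (i : ℕ) (hiJ : i ∈ J) (hi : i < D.rank) : IsWordHJ (F := F) hD C J (sG hD C i) :=
  ⟨[i], 1, by simpa using ⟨hiJ, hi⟩, one_mem _, by rw [nW_cons, nW_nil, mul_one, mul_one]⟩

theorem isWordHJ_sG_inv (J : List ℕ) (i : ℕ) (hiJ : i ∈ J) (hi : i < D.rank) :
    IsWordHJ (F := F) hD C J (sG hD C i)⁻¹ := by
  have e : (sG (F := F) hD C i)⁻¹ = sG hD C i * (sG hD C i * sG hD C i)⁻¹ := by group
  rw [e]
  exact isWordHJ_mul hD C J _ _ (isWordHJ_sG hD C J i hiJ hi)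
    (isWordHJ_of_mem_H hD C J _ (inv_mem (sG_sq_mem hD C i)))

/-- The elements of the subgroup generated by the `s_j`, `j ∈ J`, are words in `J` times elements of `H`. -/
theorem isWordHJ_of_mem_closure (J : List ℕ) (n : GL D.Idx F)
    (hn : n ∈ Subgroup.closure {g : GL D.Idx F | ∃ j ∈ J, j < D.rank ∧ g = sG hD C j}) : IsWordHJ hD C J n := by
  induction hn using Subgroup.closure_induction'' with
  | one => exact isWordHJ_of_mem_H hD C J 1 (one_mem _)
  | mem x hx =>
    obtain ⟨j, hj, hjr, rfl⟩ := hx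
    exact isWordHJ_sG hD C J j hj hjr
  | inv_mem x hx =>
    obtain ⟨j, hj, hjr, rfl⟩ := hx
    exact isWordHJ_sG_inv hD C J j hj hjr
  | mul x y _ _ h1 h2 => exact isWordHJ_mul hD C J _ _ h1 h2

/-- A word in letters lying in `M` lies in `M`. -/
theorem nW_mem_of_letters (M : Subgroup (GL D.Idx F)) (J : List ℕ)
    (hJ : ∀ j < D.rank, j ∈ J → sG hD C j ∈ M) (ws : List ℕ) (hws : ∀ i ∈ ws, i ∈ J ∧ i < D.rank) :
    nW hD C ws ∈ M := by
  induction ws with
  | nil => rw [nW_nil]; exact one_mem _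
  | cons i ws ih =>
    rw [nW_cons]
    have hi := hws i List.mem_cons_self
    exact mul_mem (hJ i hi.2 hi.1) (ih fun j hj => hws j (List.mem_cons_of_mem _ hj))

/-- The Weyl elements of the cells contained in `M` are those of `W_J`. -/
theorem nW_wd_mem_iff (M : Subgroup (GL D.Idx F)) (hBM : D.borelSubgroup F ≤ M)
    (J : List ℕ) (hJ : ∀ j < D.rank, (j ∈ J ↔ sG hD C j ∈ M)) (w : ↥(WF C)) :
    nW hD C (wd C w) ∈ M ↔ w.1 ∈ WJ C J := by
  have hHB : D.diagonalSubgroup F ≤ D.borelSubgroup F := le_sup_right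
  constructor
  · intro hn
    obtain ⟨hBG, hNG, -⟩ := Cfsg.Agent.S1043.result (F := F) D hD
    obtain ⟨P, hPB, hPN, hPS⟩ := Cfsg.Agent.S1042.exists_bnPair (F := F) D hD C
    set M' : Subgroup ↥(D.group F) := M.subgroupOf (D.group F) with hM'
    have hBM' : P.B ≤ M' := by
      intro b hb
      rw [hPB, Subgroup.mem_subgroupOf] at hb
      rw [hM', Subgroup.mem_subgroupOf]
      exact hBM hb
    have hM := eq_parabolic_of_B_le P hBM'
    have hK : {s | s ∈ P.S ∧ s ∈ M'} ⊆ P.S := fun s hs => hs.1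
    have hnG : nW hD C (wd C w) ∈ D.group F := hNG (nW_mem_monomial hD C _)
    have hnM' : (⟨nW hD C (wd C w), hnG⟩ : ↥(D.group F)) ∈ M' := by
      rw [hM', Subgroup.mem_subgroupOf]
      exact hn
    rw [hM] at hnM'
    obtain ⟨n', hn', x, hx, y, hy, hxy⟩ := (mem_parabolic_iff P hK _).mp hnM'
    -- `n'` is a word in `J` times an element of `H`
    have hcl : (n' : GL D.Idx F) ∈ Subgroup.closure {g : GL D.Idx F | ∃ j ∈ J, j < D.rank ∧ g = sG hD C j} := by
      have hmap : Subgroup.closure {s | s ∈ P.S ∧ s ∈ M'}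
          ≤ (Subgroup.closure {g : GL D.Idx F | ∃ j ∈ J, j < D.rank ∧ g = sG hD C j}).comap (D.group F).subtype := by
        rw [Subgroup.closure_le]
        rintro s ⟨hsS, hsM⟩
        rw [hPS] at hsS
        obtain ⟨i, hi, hs⟩ := hsS
        have hsi : (s : GL D.Idx F) = sG hD C i := Units.ext (by rw [hs, coe_sG hD C i hi])
        rw [SetLike.mem_coe, Subgroup.mem_comap]
        apply Subgroup.subset_closure
        refine ⟨i, ?_, hi, hsi⟩
        rw [hJ i hi, ← hsi]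
        rw [hM', Subgroup.mem_subgroupOf] at hsM
        exact hsM
      exact hmap hn'
    obtain ⟨ws, h, hws, hh, hnw⟩ := isWordHJ_of_mem_closure hD C J _ hcl
    rw [hPB, Subgroup.mem_subgroupOf] at hx hy
    have hxy' : nW hD C (wd C w) = (x : GL D.Idx F) * (n' : GL D.Idx F) * (y : GL D.Idx F) := by
      have := congrArg Subtype.val hxy
      simpa using this
    have hws' : ∀ i ∈ ws, i < D.rank := fun i hi => (hws i hi).2
    -- compare the two double coset representatives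
    have h1 : (nW hD C (wd C w))⁻¹ * nW hD C ws ∈ D.diagonalSubgroup F := by
      have e : (1 : GL D.Idx F) * nW hD C (wd C w) * 1 = (x : GL D.Idx F) * nW hD C ws * (h * (y : GL D.Idx F)) := by
        rw [one_mul, mul_one, hxy', hnw]; group
      exact inv_mul_mem_diagonal_of_eq hD C 1 (x : GL D.Idx F) _ _ 1 (h * (y : GL D.Idx F)) (one_mem _) hx
        (nW_mem_monomial hD C _) (nW_mem_monomial hD C _) (one_mem _) (mul_mem (hHB hh) hy) e
    have e2 : nW (F := F) hD C (wd C w) * ((nW hD C (wd C w))⁻¹ * nW hD C ws) = nW hD C ws * 1 := by group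
    have hperm : wordPerm C (wd C w) = wordPerm C ws := by
      ext r
      rw [wordPerm_apply C _ (wd_lt C w), wordPerm_apply C _ hws']
      exact (wordRootF_eq_of_eq hD C _ _ (wd_lt C w) hws' _ 1 h1 (one_mem _) e2 r.val r.isLt).symm
    rw [← wordPerm_wd C w, hperm]
    exact wordPerm_mem_WJ C J ws hws
  · intro hw
    obtain ⟨ws, hws, hperm⟩ := exists_word_of_mem_WJ C J w.1 hw
    have hws' : ∀ i ∈ ws, i < D.rank := fun i hi => (hws i hi).2
    have h1 := nW_inv_mul_nW_mem (F := F) hD C (wd C w) ws (wd_lt C w) hws' (by rw [wordPerm_wd, hperm])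
    have h2 : nW (F := F) hD C ws ∈ M := nW_mem_of_letters hD C M J (fun j hj hjJ => (hJ j hj).mp hjJ) ws hws
    have e : nW (F := F) hD C (wd C w) = nW hD C ws * ((nW hD C (wd C w))⁻¹ * nW hD C ws)⁻¹ := by group
    rw [e]
    exact mul_mem h2 (inv_mem (hBM (hHB h1)))

theorem WJ_le_Wgrp (J : List ℕ) : WJ C J ≤ Wgrp C := by
  unfold WJ Wgrp
  apply Subgroup.closure_mono
  rintro w ⟨j, -, hjr, rfl⟩
  exact ⟨⟨j, hjr⟩, rfl⟩

/-- An element of `W_J` as an element of the finset of all Weyl elements. -/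
def toWF (J : List ℕ) (w : ↥(WJF C J)) : ↥(WF C) :=
  ⟨w.1, (mem_WF C w.1).mpr (WJ_le_Wgrp C J ((mem_WJF C J w.1).mp w.2))⟩

/-- The cells of `M`. -/
noncomputable def cellMapJ (M : Subgroup (GL D.Idx F)) (hBM : D.borelSubgroup F ≤ M) (J : List ℕ)
    (hJ : ∀ j < D.rank, (j ∈ J ↔ sG hD C j ∈ M)) :
    (Σ w : ↥(WJF C J), ↥(D.borelSubgroup F) × ({r // r ∈ negList C (wd C (toWF C J w))} → F)) → ↥M :=
  fun a => ⟨(a.2.1 : GL D.Idx F) * nW hD C (wd C (toWF C J a.1))
      * prodL hD (negList C (wd C (toWF C J a.1))) (extL _ a.2.2), by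
    refine mul_mem (mul_mem (hBM a.2.1.2) ?_) (hBM ?_)
    · exact (nW_wd_mem_iff hD C M hBM J hJ (toWF C J a.1)).mpr ((mem_WJF C J a.1.1).mp a.1.2)
    · exact borel_of_posUnipotent _ (prodL_mem_posUnipotent hD _
        (fun r hr => ((mem_negList C _ r).mp hr).1) _)⟩

theorem cellMapJ_bijective (L : LevelData D) (M : Subgroup (GL D.Idx F)) (hBM : D.borelSubgroup F ≤ M)
    (hMG : M ≤ D.group F) (J : List ℕ) (hJ : ∀ j < D.rank, (j ∈ J ↔ sG hD C j ∈ M)) :
    Function.Bijective (cellMapJ hD C M hBM J hJ) := by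
  constructor
  · rintro ⟨w, b, t⟩ ⟨w', b', t'⟩ h
    have h0 : (b : GL D.Idx F) * nW hD C (wd C (toWF C J w)) * prodL hD (negList C (wd C (toWF C J w))) (extL _ t)
        = (b' : GL D.Idx F) * nW hD C (wd C (toWF C J w')) * prodL hD (negList C (wd C (toWF C J w'))) (extL _ t') :=
      congrArg Subtype.val h
    have h1 : cellMap (F := F) hD C ⟨toWF C J w, b, t⟩ = cellMap (F := F) hD C ⟨toWF C J w', b', t'⟩ :=
      Subtype.ext h0
    have h2 := cellMap_injective hD C h1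
    have hww : w = w' := by
      have := congrArg (fun a => (a.1 : ↥(WF C)).1) h2
      exact Subtype.ext this
    subst hww
    have h3 := eq_of_heq (Sigma.mk.inj h2).2
    rw [h3]
  · rintro ⟨g, hg⟩
    obtain ⟨⟨w, b, t⟩, ha⟩ := cellMap_surjective (F := F) hD C L ⟨g, hMG hg⟩
    have hg' : (b : GL D.Idx F) * nW hD C (wd C w) * prodL hD (negList C (wd C w)) (extL _ t) = g :=
      congrArg Subtype.val ha
    -- the Weyl element lies in `W_J`
    have hu : prodL hD (negList C (wd C w)) (extL _ t) ∈ M :=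
      hBM (borel_of_posUnipotent _ (prodL_mem_posUnipotent hD _ (fun r hr => ((mem_negList C _ r).mp hr).1) _))
    have hn : nW hD C (wd C w) ∈ M := by
      have e : nW hD C (wd C w) = (b : GL D.Idx F)⁻¹ * g * (prodL hD (negList C (wd C w)) (extL _ t))⁻¹ := by
        rw [← hg']; group
      rw [e]
      exact mul_mem (mul_mem (inv_mem (hBM b.2)) hg) (inv_mem hu)
    have hwJ := (nW_wd_mem_iff hD C M hBM J hJ w).mp hn
    refine ⟨⟨⟨w.1, (mem_WJF C J w.1).mpr hwJ⟩, b, t⟩, ?_⟩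
    apply Subtype.ext
    exact hg'

/-- C2F4-[PARCARD]. -/
theorem card_of_borel_le_h69 [Fintype F] (M : Subgroup (GL D.Idx F)) (hBM : D.borelSubgroup F ≤ M)
    (hMG : M ≤ D.group F) (J : List ℕ) (hJ : ∀ j < D.rank, (j ∈ J ↔ sG hD C j ∈ M)) :
    Nat.card M = Nat.card (D.borelSubgroup F) * wsum C J (Fintype.card F) := by
  obtain ⟨L⟩ := nonempty_levelData D hD
  unfold wsum
  rw [← Nat.card_congr (Equiv.ofBijective (cellMapJ hD C M hBM J hJ) (cellMapJ_bijective hD C L M hBM hMG J hJ)),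
    Nat.card_sigma, Finset.mul_sum, ← Finset.sum_coe_sort (WJF C J)]
  apply Finset.sum_congr rfl
  intro w _
  rw [Nat.card_prod, Nat.card_fun, Nat.card_eq_fintype_card (α := F)]
  congr 2
  rw [Nat.card_eq_fintype_card, Fintype.card_of_subtype (negList C (wd C (toWF C J w))).toFinset (by simp),
    List.toFinset_card_of_nodup ((negList_sorted C _).imp (fun h => Nat.ne_of_lt h)),
    length_negList hD C _ (wd_lt C (toWF C J w)), wordPerm_wd]
  rfl

end

end Cfsg.Agent.Lib.Helper69.C2F4
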