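/-
helper69, project C2F4 (= S2369): the centraliser of `z = x₄₄(c) x₄₇(c')` lies in `M_Z` (own name, hedge of module [Z]).
-/
import Cfsg.Agent.Lib.Helper69.C2F4.Card69
import Cfsg.Agent.Lib.Helper89.C2F4CentGen

set_option autoImplicit false

namespace Cfsg.Agent.Lib.Helper69.C2F4

open Cfsg.Lie Cfsg.Agent.Lib.Helper18 Cfsg.Agent.Lib.Helper91.ReeF4 Cfsg.Agent.Lib.Helper18.F4T

universe u

variable {K : Type u} [Field K]

theorem XA_nil_h69 (y : GL chevF4.Idx K) (hy : y ∈ XA K []) : y = 1 := by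
  unfold XA at hy
  have : {g : GL chevF4.Idx K | ∃ r ∈ ([] : List ℕ), ∃ c : K, g = xG hD4 r c} = ∅ := by
    ext g
    simp
  rw [this, Subgroup.closure_empty, Subgroup.mem_bot] at hy
  exact hy

/-- If `g = b n_w b'` with `w` mapping `A` into `A` then `g` normalises `X_A`. -/
theorem mem_MA_of_bruhat_h69 [CharP K 2] (A : List ℕ) (hA : ∀ r ∈ A, r < 48) (hnd : A.Nodup)
    (hsp : Spread chevF4 A = true) (hcm : CommFree chevF4 A = true) (hst : UStable chevF4 A A = true)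
    (g b b' : GL chevF4.Idx K) (hb : b ∈ chevF4.borelSubgroup K) (hb' : b' ∈ chevF4.borelSubgroup K)
    (ws : List ℕ) (hws : ∀ i ∈ ws, i < 4) (hg : g = b * nW hD4 chevData_F4.{u} ws * b')
    (hw : ∀ r ∈ A, wordRootF f4tabs ws r ∈ A) : g ∈ MA K A := by
  rw [hg]
  have hB := borel_le_MA (K := K) A hA hst
  exact mul_mem (mul_mem (hB hb) ((nW_mem_MA_iff_h69 A hA hnd hsp hcm ws hws).mpr hw)) (hB hb')

theorem cent_z_le_h69 [CharP K 2] (c c' : K) (hc : c ≠ 0) (hc' : c' ≠ 0) (g : GL chevF4.Idx K)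
    (hg : g ∈ chevF4.group K)
    (hcomm : g * (xG hD4 44 c * xG hD4 47 c') = (xG hD4 44 c * xG hD4 47 c') * g) : g ∈ MA K AZ := by
  set T : Set (GL chevF4.Idx K) := {y | ∃ a b : K, a ≠ 0 ∧ b ≠ 0 ∧ y = xG hD4 44 a * xG hD4 47 b} with hTdef
  have hT : ∀ y ∈ T, ∃ t : ℕ → K, y = prodL hD4 AZ t ∧ ∀ r ∈ AZ, t r ≠ 0 := by
    rintro y ⟨a, b, ha, hb, rfl⟩
    refine ⟨fun r => if r = 44 then a else b, ?_, ?_⟩
    · unfold AZ
      rw [prodL_cons, prodL_cons, prodL_nil, mul_one]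
      simp
    · intro r hr
      unfold AZ at hr
      simp only [List.mem_cons, List.not_mem_nil, or_false] at hr
      rcases hr with rfl | rfl
      · simpa using ha
      · simpa using hb
  have hTB : ∀ y ∈ T, ∀ b ∈ chevF4.borelSubgroup K, b * y * b⁻¹ ∈ T := by
    rintro y ⟨a, b, ha, hb, rfl⟩ b₀ hb₀
    obtain ⟨a', ha', x₁, hx₁, e₁⟩ := borel_conj_mem (K := K) AZ [] (by decide) (by decide) uStable_AZ (by decide)
      b₀ hb₀ 44 (by decide) a ha
    obtain ⟨b', hb', x₂, hx₂, e₂⟩ := borel_conj_mem (K := K) AZ [] (by decide) (by decide) uStable_AZ (by decide)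
      b₀ hb₀ 47 (by decide) b hb
    rw [XA_nil_h69 x₁ hx₁, mul_one] at e₁
    rw [XA_nil_h69 x₂ hx₂, mul_one] at e₂
    refine ⟨a', b', ha', hb', ?_⟩
    rw [← e₁, ← e₂]
    group
  have hz : xG hD4 44 c * xG hD4 47 c' ∈ T := ⟨c, c', hc, hc', rfl⟩
  have hgz : g * (xG hD4 44 c * xG hD4 47 c') * g⁻¹ ∈ T := by
    rw [hcomm, mul_inv_cancel_right]
    exact hz
  obtain ⟨b, hb, b', hb', ws, hws, hgb, hw⟩ := exists_bruhat_of_conj (K := K) AZ (by decide) (by decide) spread_AZ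
    AZ (fun r hr => hr) T hT hTB g hg _ hz hgz
  exact mem_MA_of_bruhat_h69 AZ (by decide) (by decide) spread_AZ commFree_AZ uStable_AZ_AZ g b b' hb hb' ws hws hgb hw

end Cfsg.Agent.Lib.Helper69.C2F4
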